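import Cfsg.Agent.H557.LrData
import Cfsg.Agent.H557.LrNF
import Cfsg.Agent.H557.ToralTypes
import Cfsg.Agent.H557.LrE7
import Cfsg.Agent.H351.SpSix.RankE8_m3
import Cfsg.Agent.ChevalleyStructure.E6Min.Torus
import Cfsg.Agent.ChevalleyStructure.E6Min.Adjoint
import Cfsg.Agent.H689.ExcSix
import Cfsg.Agent.H336.SpSix.Def_m3
import Cfsg.Agent.H351.SpSix.Rep
import Cfsg.Agent.FastGrp
import Cfsg.Agent.Prune
set_option linter.all false

section
prune_inst 0x7f00000000000000000000000000000000000000000000000000000000000000000000000000000000000000000000000000000000000000000000000000000000000000000000000000000000000000003fffffffffffffffffffffffffffbeffbdffffffff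

-- part: H318/Four/E6Inv
section
set_option linter.all false
open scoped Cfsg.Agent.FastGrp

-- part: H318/Four/E6Tor
section
/-!
# The involutions of `E₆(F)`, `F` finite of odd order, are conjugate into the torus (helper318, for S1918)
-/

set_option autoImplicit false
set_option linter.unusedSectionVars false

namespace Cfsg.Agent.H318.Four.E6Tor

open CoxeterSystem Cfsg.Agent.ChevalleyStructure.CoxeterGeom Cfsg.Agent.Tits.Roots Cfsg.Agent.Tits.Core
  Cfsg.Agent.Tits.RootComb Cfsg.Agent.Tits.Exchange Cfsg.Agent.Nodes.Reps Cfsg.Agent.Nodes.BNOf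
  Cfsg.Agent.Nodes.StabComb Cfsg.Agent.Nodes.Bruhat Cfsg.Agent.Nodes.OppDec Cfsg.Agent.Nodes.RGDLib
  Cfsg.Agent.UGT.U2.FOne
open Cfsg Cfsg.Lie Cfsg.Agent.ChevalleyStructure.CoxeterGeomTypes Cfsg.Agent.Nodes.RGDChev
open Cfsg.Agent.KFacts.RgdChevCoord (TT XX)
open Cfsg.Agent.H557 Cfsg.Agent.H557.LrSgn Cfsg.Agent.H557.LrTor Cfsg.Agent.H557.LrOrb Cfsg.Agent.H557.LrIso
  Cfsg.Agent.H557.LrNF Cfsg.Agent.H557.LrData
open Cfsg.Agent.H974.Exc (sym_E6 sym_E7 sym_E8 J_E6 J_E6' J_E7 J_E8 fix_of_id map_of_graph s6)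

variable (K : Type) [Field K] [Fintype K]

/-- the involutions of `E₆(F)` are toral -/
theorem toral_E6 (ho : Odd (Fintype.card K)) {t : ↥(chevE6.group K)} (htt : t * t = 1) :
    ∃ g, g * t * g⁻¹ ∈ TT chevE6 K := by
  by_cases h1 : t = 1
  · exact ⟨1, by rw [h1, one_mul, inv_one, mul_one]; exact Subgroup.one_mem _⟩
  obtain ⟨p, hpp, hpc, hp2⟩ := ToralTypes.exists_char K ho
  have : Fact p.Prime := ⟨hpp⟩
  have hp2' : p ≠ 2 := by
    rintro rfl
    exact (by decide : ¬ Odd 2) hp2
  have hS : IsSimpleGroup ↥(Lie.chevE6.group K) ∧ ¬ IsMulCommutative ↥(Lie.chevE6.group K) := S1054.result _ (by simp)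
  have hs := hS.1
  have hZ := center_eq_bot hS
  obtain ⟨cs, hcs⟩ : ∃ cs, cs = (CoxeterMatrix.E₆).toCoxeterSystem := ⟨_, rfl⟩
  have hW : Finite (CoxeterMatrix.E₆).Group := finite_W isType_E6 cs
  have R := rgd (K := K) isType_E6 cs p
  have hG := G1_eq_top (K := K) isType_E6 cs
  have hGG := KFacts.RgdRigid.GG_eq_top (T := TT chevE6 K) hG
  obtain ⟨k, φ, σ, J, g, N⟩ := exists_nf_inner hp2' R hG hZ htt h1
  have hT : k⁻¹ * t * k ∈ TT chevE6 K := by
    rcases sym_E6 ⟨σ, σ, N.σσ, N.σσ⟩ (fun i j => FFour.sigma_matrix N.φ_simple i j) with hσ | hσ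
    · have hσ' : ∀ i, σ i = i := hσ
      have hJ := J_E6 N hσ'
      exact mem_T_of R hGG fun c hc => fix_of_id N.nx hσ' hJ hc
    · exfalso
      have hσ' : σ = s6 := funext hσ
      have hJ := J_E6' N hσ'
      have hA : ∀ i j, cartanOf chevE6 6 (σ i) (σ j) = cartanOf chevE6 6 i j := by
        rw [hσ']
        decide +kernel
      have hmap : ∀ c, IsRoot cs isType_E6.isCartan c → cj (k⁻¹ * t * k) (XX chevE6 6 K c) = XX chevE6 6 K (c ∘ σ) :=
        fun c hc => map_of_graph N.nx hA hJ hc
      have hroot : ∀ c, IsRoot cs isType_E6.isCartan c → IsRoot cs isType_E6.isCartan (c ∘ σ) := by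
        rintro _ ⟨w, i, rfl⟩
        rw [← H974.Exc.rep_comp N.φ_simple N.σσ hA]
        refine ⟨φ w, σ i, ?_⟩
        congr 1
        funext j
        by_cases hj : j = σ i
        · rw [hj, Function.comp_apply, N.σσ, sr_self, sr_self]
        · rw [Function.comp_apply, sr_ne hj, sr_ne]
          intro h2
          exact hj (by rw [← h2, N.σσ])
      have h6 := graph_trivial R hGG N.σσ hroot hmap 0
      rw [hσ'] at h6
      exact absurd h6 (by decide)
  have h4 : k⁻¹ * t * k = k⁻¹ * t * k⁻¹⁻¹ := by rw [inv_inv]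
  rw [h4] at hT
  exact ⟨_, hT⟩

end Cfsg.Agent.H318.Four.E6Tor
end

-- part: H318/Four/E6Inv
section
/-!
# The involutions of `E₆(F)` on the module of dimension 27 (helper318, for S1918)

An involution of the group on the 27-dimensional module has an eigenspace for `-1` of dimension `12` or `16`.
-/

set_option autoImplicit false

namespace Cfsg.Agent.H318.Four.E6Inv

open Cfsg Cfsg.Lie Matrix
open Cfsg.Agent.ChevalleyStructure.E6Min Cfsg.Agent.ChevalleyStructure.E6Min.Tables
  Cfsg.Agent.ChevalleyStructure.E6Min.Basic Cfsg.Agent.ChevalleyStructure.E6Min.Forms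
  Cfsg.Agent.ChevalleyStructure.E6Min.Inv Cfsg.Agent.ChevalleyStructure.E6Min.Elim
  Cfsg.Agent.ChevalleyStructure.E6Min.Torus Cfsg.Agent.ChevalleyStructure.E6Min.Adjoint
open Cfsg.Agent.KFacts.RgdChevCoord (TT XX)

/-! ### tables -/

def Ms : List ℕ := [74525577, 132344832, 59914578, 59885796, 95683015, 114819576]

def gens : List ℕ := [9, 10, 12, 15, 18, 19]

def Xr (n : ℕ) : ℕ → ℕ
  | 0 => 0
  | k + 1 => if n.testBit k then (Xr n k) ^^^ (Ms.getD k 0) else Xr n k

def cnt (X : ℕ) : ℕ → ℕ
  | 0 => 0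
  | n + 1 => if X.testBit n then cnt X n + 1 else cnt X n

theorem cnt_eq (X N : ℕ) : cnt X N = ((Finset.range N).filter fun s => X.testBit s = true).card := by
  induction N with
  | zero => rfl
  | succ N ih =>
    rw [Finset.range_add_one, Finset.filter_insert, cnt]
    split_ifs with h
    · rw [Finset.card_insert_of_notMem (by simp), ih]
    · exact ih

theorem tab_cnt : ∀ n < 64, cnt (Xr n 6) 27 = 0 ∨ cnt (Xr n 6) 27 = 12 ∨ cnt (Xr n 6) 27 = 16 := by decide +kernel

theorem tab_wt : (allLt 27 fun x => allLt 27 fun y => (x == y) || !(allLt 6 fun i =>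
    !((lbN x i - lbN y i == 1) || (lbN x i - lbN y i == -1) || (lbN x i - lbN y i == 2) ||
      (lbN x i - lbN y i == -2)))) = true := by decide +kernel

theorem tab_gen : (allLt 64 fun n => allLt 6 fun j => (Xr n 6).testBit (gens.getD j 0) == n.testBit j) = true := by
  decide +kernel

theorem tab_rel : (allLt 27 fun m => allLt 27 fun k => !(relN m k == 2) || (allLt 6 fun j =>
    !(((Ms.getD j 0).testBit m ^^ (Ms.getD j 0).testBit k) ^^ (Ms.getD j 0).testBit (thN m k)))) = true := by
  decide +kernel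

/-! ### sign characters -/

theorem rel_Xr (n : ℕ) {m k : ℕ} (hm : m < 27) (hk : k < 27) (h : relN m k = 2) :
    ∀ i ≤ 6, (((Xr n i).testBit m ^^ (Xr n i).testBit k) ^^ (Xr n i).testBit (thN m k)) = false := by
  intro i
  induction i with
  | zero => intro _; simp [Xr]
  | succ i ih =>
    intro hi
    have ih' := ih (by omega)
    have h2 := allLt_spec (allLt_spec tab_rel m hm) k hk
    rw [h] at h2
    have h3 := allLt_spec (show allLt 6 (fun j =>
      !(((Ms.getD j 0).testBit m ^^ (Ms.getD j 0).testBit k) ^^ (Ms.getD j 0).testBit (thN m k))) = true from by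
        simpa using h2) i (by omega)
    rw [Xr]
    split_ifs with h4
    · rw [Nat.testBit_xor, Nat.testBit_xor, Nat.testBit_xor]
      revert ih' h3
      generalize (Xr n i).testBit m = a
      generalize (Xr n i).testBit k = b
      generalize (Xr n i).testBit (thN m k) = c
      generalize (Ms.getD i 0).testBit m = a'
      generalize (Ms.getD i 0).testBit k = b'
      generalize (Ms.getD i 0).testBit (thN m k) = c'
      revert a b c a' b' c'
      decide
    · exact ih'

variable {F : Type*} [Field F]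

/-- the sign of a bit -/
def sb (F : Type*) [Field F] (b : Bool) : F := if b then -1 else 1

theorem sb_mul (a b : Bool) : sb F a * sb F b = sb F (a ^^ b) := by
  cases a <;> cases b <;> simp [sb]

theorem sb_self (a : Bool) : sb F a * sb F a = 1 := by
  cases a <;> simp [sb]

/-- the signs of a diagonal involution -/
theorem exists_signs {d : I27 → F} (hd : ∀ x, d x * d x = 1)
    (hrel : ∀ m k, rel m k = 2 → d m * d k * d (th m k) = 1) :
    ∃ n < 64, ∀ x, d x = sb F ((Xr n 6).testBit (code x)) := by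
  classical
  let n : ℕ := Nat.ofBits fun j : Fin 6 => decide (d (dec (gens.getD j.val 0)) ≠ 1)
  have hn : n < 64 := Nat.ofBits_lt_two_pow _
  have hbit : ∀ j < 6, n.testBit j = decide (d (dec (gens.getD j 0)) ≠ 1) := fun j hj =>
    Nat.testBit_ofBits_lt _ j hj
  refine ⟨n, hn, ?_⟩
  have key : ∀ x, d x * sb F ((Xr n 6).testBit (code x)) = 1 := by
    refine prop_spec (d := fun x => d x * sb F ((Xr n 6).testBit (code x))) ?_ _ _ ?_ prop_check
    · intro m k h
      have h1 := hrel m k h
      have h2 := rel_Xr n (code_lt m) (code_lt k) h 6 le_rfl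
      have h3 : code (th m k) = thN (code m) (code k) := by
        show code (dec (thN (code m) (code k))) = _
        exact code_dec (by
          have := (th_spec h).1
          by_contra h4
          have h5 := allLt_spec (allLt_spec (show (allLt 27 fun m => allLt 27 fun k => !(relN m k == 2) ||
            Nat.blt (thN m k) 27) = true by decide +kernel) _ (code_lt m)) _ (code_lt k)
          have h6 : relN (code m) (code k) = 2 := h
          rw [h6] at h5
          simp at h5
          exact h4 h5)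
      show d m * sb F _ * (d k * sb F _) * (d (th m k) * sb F _) = 1
      rw [h3]
      have h4 : sb F ((Xr n 6).testBit (code m)) * sb F ((Xr n 6).testBit (code k)) *
          sb F ((Xr n 6).testBit (thN (code m) (code k))) = 1 := by
        rw [sb_mul, sb_mul, h2]; rfl
      linear_combination (sb F ((Xr n 6).testBit (code m)) * sb F ((Xr n 6).testBit (code k)) *
          sb F ((Xr n 6).testBit (thN (code m) (code k)))) * h1 + h4
    · intro x hx
      have hx' : code x ∈ gens := hx
      obtain ⟨j, hj, hjx⟩ := List.mem_iff_getElem.1 hx'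
      have hj6 : j < 6 := hj
      have h1 : gens.getD j 0 = code x := by
        rw [List.getD_eq_getElem _ _ hj, hjx]
      have h2 := hbit j hj6
      rw [h1, dec_code] at h2
      have h3 := allLt_spec (allLt_spec tab_gen n hn) j hj6
      rw [beq_iff_eq, h1, h2] at h3
      show d x * sb F ((Xr n 6).testBit (code x)) = 1
      rw [h3]
      have h4 : d x = 1 ∨ d x = -1 := mul_self_eq_one_iff.1 (hd x)
      by_cases h5 : d x = 1
      · rw [h5]; simp [sb]
      · rw [h4.resolve_left h5]
        by_cases h6 : (-1 : F) = 1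
        · rw [h6]; simp [sb]
        · simp [sb, h6]
  intro x
  have h1 := key x
  have h2 := sb_self (F := F) ((Xr n 6).testBit (code x))
  calc d x = d x * (sb F ((Xr n 6).testBit (code x)) * sb F ((Xr n 6).testBit (code x))) := by rw [h2, mul_one]
    _ = _ := by rw [← mul_assoc, h1, one_mul]

/-- a matrix commuting with the six diagonal matrices of the weights is diagonal -/
theorem diag_of_comm (h2 : (2 : F) ≠ 0) {g : Matrix I27 I27 F} (h : ∀ i < 6, g * Hm F i = Hm F i * g) {x y : I27}
    (hxy : x ≠ y) : g x y = 0 := by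
  have h1 := allLt_spec (allLt_spec tab_wt _ (code_lt x)) _ (code_lt y)
  have h3 : (code x == code y) = false := by
    rw [beq_eq_false_iff_ne]
    intro h4
    apply hxy
    rw [← dec_code x, h4, dec_code]
  rw [h3, Bool.false_or, Bool.not_eq_true'] at h1
  have h4 : ∃ i < 6, (wt x i - wt y i = 1 ∨ wt x i - wt y i = -1 ∨ wt x i - wt y i = 2 ∨ wt x i - wt y i = -2) := by
    by_contra h5
    have h6 : allLt 6 (fun i => !((lbN (code x) i - lbN (code y) i == 1) || (lbN (code x) i - lbN (code y) i == -1) ||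
        (lbN (code x) i - lbN (code y) i == 2) || (lbN (code x) i - lbN (code y) i == -2))) = true := by
      apply Cfsg.Agent.ChevalleyStructure.E6Min.Checks.allLt_intro
      intro i hi
      push Not at h5
      obtain ⟨a1, a2, a3, a4⟩ := h5 i hi
      simp only [wt] at a1 a2 a3 a4
      simp [a1, a2, a3, a4]
    rw [h6] at h1
    exact Bool.noConfusion h1
  obtain ⟨i, hi, h5⟩ := h4
  have h6 := congrFun (congrFun (h i hi) x) y
  rw [show Hm F i = Matrix.diagonal fun x => ((wt x i : ℤ) : F) from rfl, Matrix.mul_diagonal,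
    Matrix.diagonal_mul] at h6
  have h7 : ((wt x i - wt y i : ℤ) : F) * g x y = 0 := by
    rw [Int.cast_sub]; linear_combination -h6
  rcases mul_eq_zero.1 h7 with h8 | h8
  · exfalso
    rcases h5 with h5 | h5 | h5 | h5 <;> rw [h5] at h8
    · rw [Int.cast_one] at h8; exact one_ne_zero h8
    · rw [Int.cast_neg, Int.cast_one, neg_eq_zero] at h8; exact one_ne_zero h8
    · exact h2 (by simpa using h8)
    · exact h2 (by simpa using h8)
  · exact h8

/-- the rank of `g - 1` for a diagonal involution -/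
theorem rank_diag (h2 : (2 : F) ≠ 0) {g : GL I27 F} (hg : g ∈ Zgrp F) (hgg : g * g = 1)
    (hc : ∀ i < 6, (g : Matrix I27 I27 F) * Hm F i = Hm F i * (g : Matrix I27 I27 F)) :
    ((g : Matrix I27 I27 F) - 1).rank = 0 ∨ ((g : Matrix I27 I27 F) - 1).rank = 12 ∨
      ((g : Matrix I27 I27 F) - 1).rank = 16 := by
  classical
  obtain ⟨d, hd⟩ : ∃ d : I27 → F, ∀ x, d x = (g : Matrix I27 I27 F) x x := ⟨_, fun _ => rfl⟩
  have hgd : (g : Matrix I27 I27 F) = Matrix.diagonal d := by
    ext x y
    by_cases hxy : x = y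
    · subst hxy; rw [Matrix.diagonal_apply_eq, hd]
    · rw [Matrix.diagonal_apply_ne _ hxy]; exact diag_of_comm h2 hc hxy
  have he : ∀ x, (g : Matrix I27 I27 F) *ᵥ e F x = d x • e F x := by
    intro x
    rw [hgd]
    funext y
    rw [Matrix.mulVec_diagonal, e_apply, Pi.smul_apply, e_apply]
    by_cases h : y = x
    · rw [if_pos h, h, smul_eq_mul]
    · rw [if_neg h, mul_zero, smul_zero]
  have hdd : ∀ x, d x * d x = 1 := by
    intro x
    have h1 := congrArg (fun g : GL I27 F => (g : Matrix I27 I27 F) x x) hgg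
    simp only [Units.val_mul, Units.val_one, hgd, Matrix.diagonal_mul_diagonal, Matrix.diagonal_apply_eq,
      Matrix.one_apply_eq] at h1
    exact h1
  obtain ⟨n, hn, hs⟩ := exists_signs hdd fun m k h => diag_rel (Zgrp_le F hg) he h
  have hmat : (g : Matrix I27 I27 F) - 1 =
      Matrix.diagonal (fun x => if (Xr n 6).testBit (code x) then (-2 : F) else 0) := by
    rw [hgd, ← Matrix.diagonal_one, Matrix.diagonal_sub]
    congr 1
    funext x
    rw [hs x]
    cases (Xr n 6).testBit (code x)
    · simp [sb]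
    · simp only [sb, if_true]; ring
  have hcard : ((g : Matrix I27 I27 F) - 1).rank = cnt (Xr n 6) 27 := by
    rw [hmat, Matrix.rank_diagonal, cnt_eq, Fintype.card_subtype]
    symm
    refine Finset.card_bij (fun s _ => dec s) ?_ ?_ ?_
    · intro s hs
      rw [Finset.mem_filter, Finset.mem_range] at hs
      rw [Finset.mem_filter]
      refine ⟨Finset.mem_univ _, ?_⟩
      rw [code_dec hs.1, if_pos hs.2]
      exact neg_ne_zero.2 h2
    · intro s hs s' hs' h
      rw [Finset.mem_filter, Finset.mem_range] at hs hs'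
      rw [← code_dec hs.1, ← code_dec hs'.1, h]
    · intro x hx
      rw [Finset.mem_filter] at hx
      refine ⟨code x, ?_, dec_code x⟩
      rw [Finset.mem_filter, Finset.mem_range]
      refine ⟨code_lt x, ?_⟩
      by_contra h4
      exact hx.2 (if_neg h4)
  rw [hcard]
  exact tab_cnt n hn

/-- **the rank of `g - 1` on the module of dimension 27 for an involution `g`** -/
theorem rank_inv {F : Type} [Field F] [Fintype F] (ho : Odd (Fintype.card F)) (h2 : (2 : F) ≠ 0) {g : Zgrp F}
    (hgg : g * g = 1) :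
    (((g : GL I27 F) : Matrix I27 I27 F) - 1).rank = 0 ∨ (((g : GL I27 F) : Matrix I27 I27 F) - 1).rank = 12 ∨
      (((g : GL I27 F) : Matrix I27 I27 F) - 1).rank = 16 := by
  classical
  have ht : ad F g * ad F g = 1 := by rw [← map_mul, hgg, map_one]
  obtain ⟨y, hy⟩ := E6Tor.toral_E6 F ho ht
  obtain ⟨x, rfl⟩ := ad_surjective y
  have hs : ((ad F (x * g * x⁻¹) : ↥(chevE6.group F)) : GL chevE6.Idx F) ∈ chevE6.diagonalSubgroup F := by
    rw [map_mul, map_mul, map_inv]
    exact Subgroup.mem_subgroupOf.1 hy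
  have hss : (x * g * x⁻¹) * (x * g * x⁻¹) = 1 := by
    rw [show (x * g * x⁻¹) * (x * g * x⁻¹) = x * (g * g) * x⁻¹ by group, hgg, mul_one, mul_inv_cancel]
  obtain ⟨c, hc⟩ := Cfsg.Agent.H351.SpSix.RankE8.exists_dmat' chevE6 (by simp) _ hs
  have hcomm : ∀ i < 6, (((x * g * x⁻¹ : Zgrp F) : GL I27 F) : Matrix I27 I27 F) * Hm F i =
      Hm F i * (((x * g * x⁻¹ : Zgrp F) : GL I27 F) : Matrix I27 I27 F) := by
    intro i hi
    have h1 := (P_def _ _).1 (ad_P (x * g * x⁻¹)) (Sum.inl ⟨i, hi⟩)
    rw [B_inl, hc, comb_def, Finset.sum_eq_single (Sum.inl ⟨i, hi⟩)] at h1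
    · rw [h1, B_inl, ChevalleyStructure.HDiag.dmat_def, Matrix.diagonal_apply_eq]
      show ((1 : F) • Hm F i) * _ = _
      rw [one_smul]
    · intro row _ hrow
      rw [ChevalleyStructure.HDiag.dmat_def, Matrix.diagonal_apply_ne _ hrow, zero_smul]
    · intro h; exact absurd (Finset.mem_univ _) h
  have h3 := rank_diag h2 (x * g * x⁻¹).2 (congrArg Subtype.val hss) hcomm
  have h4 : (((x * g * x⁻¹ : Zgrp F) : GL I27 F) : Matrix I27 I27 F) - 1 =
      ((x : GL I27 F) : Matrix I27 I27 F) * ((((g : GL I27 F) : Matrix I27 I27 F) - 1) *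
          (((x : GL I27 F)⁻¹ : GL I27 F) : Matrix I27 I27 F)) := by
    rw [Matrix.sub_mul, Matrix.mul_sub, one_mul, ← Units.val_mul (x : GL I27 F), mul_inv_cancel, Units.val_one,
      ← Units.val_mul, ← Units.val_mul, ← mul_assoc]
    rfl
  have hd : ∀ x : GL I27 F, IsUnit (x : Matrix I27 I27 F).det := fun x =>
    (Matrix.isUnit_iff_isUnit_det _).1 x.isUnit
  have h5 : ((((x * g * x⁻¹ : Zgrp F) : GL I27 F) : Matrix I27 I27 F) - 1).rank =
      (((g : GL I27 F) : Matrix I27 I27 F) - 1).rank := by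
    rw [h4, Matrix.rank_mul_eq_right_of_isUnit_det _ _ (hd _), Matrix.rank_mul_eq_left_of_isUnit_det _ _ (hd _)]
  rwa [h5] at h3

end Cfsg.Agent.H318.Four.E6Inv
end

private theorem dce_535aef1f4afa : _root_.True := by
  try have : _root_.True := by simp only [_root_.Cfsg.Agent.H318.Four.E6Inv.Xr.eq_1]
  try have : _root_.True := by simp only [_root_.Cfsg.Agent.H318.Four.E6Inv.cnt.eq_1]
  try have : _root_.True := by simp only [_root_.Cfsg.Agent.H318.Four.E6Inv.cnt.eq_2]
  try have : _root_.True := by simp only [_root_.Cfsg.Agent.H318.Four.E6Inv.Xr.eq_2]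
  try have : _root_.True := by simp only [_root_.Cfsg.Agent.H318.Four.E6Inv.Xr.eq_def]
  try have : _root_.True := by simp only [_root_.Cfsg.Agent.H318.Four.E6Inv.cnt.eq_def]
  try have : _root_.True := by simp only [_root_.Cfsg.Agent.H318.Four.E6Inv.sb.eq_1]
  try have : _root_.True := by simp only [_root_.Cfsg.Agent.ChevalleyStructure.E6Min.Basic.wt.eq_1]
  exact _root_.True.intro
end

-- part: H318/Four/RowE6
section
set_option linter.all false
open scoped Cfsg.Agent.FastGrp

-- part: H318/Four/Lift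
section
/-!
# Lifting a `Sit` along a surjective homomorphism with a central kernel of exponent `3` (helper318, for S1918)
-/

set_option autoImplicit false

namespace Cfsg.Agent.H318.Four.Lift

open Subgroup Cfsg.Agent.H336.LinFour

variable {L K : Type*} [Group L] [Group K] (π : L →* K)

/-- the kernel is central of exponent `3` -/
def Ker3 : Prop := ∀ z, π z = 1 → (∀ x, x * z = z * x) ∧ z ^ 3 = 1

variable {π}

theorem eq_one_of {z : L} (hk : Ker3 π) (hz : π z = 1) (h2 : z * z = 1) : z = 1 := by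
  have h3 := (hk z hz).2
  rwa [pow_succ, pow_two, h2, one_mul] at h3

/-- involutions have unique lifts of order two -/
theorem unique (hk : Ker3 π) {s t : L} (hs : s * s = 1) (ht : t * t = 1) (h : π s = π t) : s = t := by
  have hz : π (s⁻¹ * t) = 1 := by rw [map_mul, map_inv, h, inv_mul_cancel]
  have hc := (hk _ hz).1
  have h1 : (s⁻¹ * t) * (s⁻¹ * t) = 1 := by
    have h2 := hc s
    have h3 : t = s * (s⁻¹ * t) := by group
    have h4 : t * t = (s * s) * ((s⁻¹ * t) * (s⁻¹ * t)) := by
      calc t * t = (s * (s⁻¹ * t)) * (s * (s⁻¹ * t)) := by rw [← h3]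
        _ = s * ((s⁻¹ * t) * s) * (s⁻¹ * t) := by simp only [mul_assoc]
        _ = s * (s * (s⁻¹ * t)) * (s⁻¹ * t) := by rw [h2]
        _ = _ := by simp only [mul_assoc]
    rw [ht, hs, one_mul] at h4
    exact h4.symm
  have h5 := eq_one_of hk hz h1
  rw [inv_mul_eq_one] at h5
  exact h5

theorem exists_lift (hk : Ker3 π) (hsurj : Function.Surjective π) {x : K} (hx : x * x = 1) :
    ∃ s : L, s * s = 1 ∧ π s = x := by
  obtain ⟨y, rfl⟩ := hsurj x
  have h1 : π (y * y) = 1 := by rw [map_mul, hx]
  have h2 := (hk _ h1).2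
  refine ⟨y ^ 3, ?_, ?_⟩
  · calc y ^ 3 * y ^ 3 = (y * y) ^ 3 := ((Commute.refl y).mul_pow 3).symm
      _ = 1 := h2
  · rw [map_pow, pow_succ, pow_two, hx, one_mul]

end Cfsg.Agent.H318.Four.Lift
end

-- part: H318/Four/RowE6
section
/-!
# No `Sit` of rank four in the groups of type `E₆`, `²E₆` in odd characteristic (helper318, for S1918)

The subgroup lifts to the group acting on the module of dimension `27`. The fifteen nonzero weights of `A` have the
same multiplicity `m`, and an involution has an eigenspace of dimension `8 m` for `-1`: this is `12` or `16` and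
`15 m ≤ 27`.
-/

set_option autoImplicit false

namespace Cfsg.Agent.H318.Four.RowE6

open Cfsg Cfsg.Lie Matrix
open Cfsg.Agent.ChevalleyStructure.E6Min Cfsg.Agent.ChevalleyStructure.E6Min.Tables
  Cfsg.Agent.ChevalleyStructure.E6Min.Basic Cfsg.Agent.ChevalleyStructure.E6Min.Forms
  Cfsg.Agent.ChevalleyStructure.E6Min.Inv Cfsg.Agent.ChevalleyStructure.E6Min.Elim
  Cfsg.Agent.ChevalleyStructure.E6Min.Torus Cfsg.Agent.ChevalleyStructure.E6Min.Adjoint
open Cfsg.Agent.H336.LinFour Cfsg.Agent.H511.LinFour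

theorem exists_rel : ∃ m k : I27, rel m k = 2 := ⟨dec 9, dec 18, by decide +kernel⟩

/-- the kernel of the map to the adjoint group is central of exponent `3` -/
theorem ker3 (F : Type*) [Field F] : Lift.Ker3 (ad F) := by
  intro z hz
  have hz' : z ∈ (ad F).ker := hz
  refine ⟨?_, ?_⟩
  · rw [ker_ad, Subgroup.mem_center_iff] at hz'
    exact hz'
  · have h1 := H689.scalar_of_comm (g := ((z : GL I27 F) : Matrix I27 I27 F))
      fun r hr => comm_B_of_ker hz (Sum.inr ⟨r, hr⟩)
    obtain ⟨c, hc⟩ : ∃ c : F, c = ((z : GL I27 F) : Matrix I27 I27 F) (dec 0) (dec 0) := ⟨_, rfl⟩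
    rw [← hc] at h1
    have he : ∀ x, ((z : GL I27 F) : Matrix I27 I27 F) *ᵥ e F x = c • e F x := by
      intro x
      rw [h1]
      funext y
      rw [Matrix.mulVec_diagonal, Pi.smul_apply, smul_eq_mul]
    obtain ⟨m, k, hmk⟩ := exists_rel
    have h2 := diag_rel (d := fun _ => c) (Zgrp_le F z.2) he hmk
    apply Subtype.ext
    apply Units.ext
    have h3 : ((z ^ 3 : Zgrp F) : GL I27 F) = (z : GL I27 F) ^ 3 := rfl
    rw [h3, Units.val_pow_eq_pow_val, h1, Matrix.diagonal_pow]
    have h4 : ((fun _ : I27 => c) ^ 3 : I27 → F) = fun _ => 1 := by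
      funext x
      show c ^ 3 = 1
      rw [← h2]; ring
    rw [h4, Matrix.diagonal_one]
    rfl

theorem finrank_27 (F : Type*) [Field F] : Module.finrank F (I27 → F) = 27 := by
  rw [Module.finrank_fintype_fun_eq_card]
  simp [I27]

end Cfsg.Agent.H318.Four.RowE6
end
end
end
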